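import Cfsg.Agent.Lib.Y555.Words

/-!
# Enumeration certificates with hints, and fixed cosets

The hints say from which relator each word of a certificate comes. For a closed table, orbit paths
show that a coset fixed by the subgroup is special or forces a target into the subgroup.
-/

set_option autoImplicit false

namespace CfsgLib.Y555

open CfsgLib.PresCert

/-- The full word of an entry of the word list. -/
def fullWord (D : Data) (r : ℕ) : List ℕ :=
  (wordAt D r).1 ++ (if (wordAt D r).2.1 < D.ng then [(wordAt D r).2.1] else []) ++ (wordAt D r).2.2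

/-- The unmarked words are rotations of the given relators, as hinted. -/
def hintsOk (D : Data) (rels : List (List ℕ)) (hints : List (ℕ × ℕ × Bool)) : Bool :=
  Nat.ble D.nrel hints.length && rels.all (fun w => w.all fun g => Nat.blt g D.ng) &&
    (List.range D.nrel).all fun r =>
      let h := hints.getD r (0, 0, false)
      let v := rels.getD h.1 []
      decide (fullWord D r = []) ||
        decide (fullWord D r = (if h.2.2 then v.reverse else v).rotate h.2.1)

/-- The marked words are among the subgroup words. -/
def marksOk (D : Data) (subs : List (List ℕ)) : Bool :=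
  (List.range (16 * D.words.length)).all fun r => Nat.blt r D.nrel ||
    decide (fullWord D r = []) || subs.any fun v => decide (fullWord D r = v)

variable {M X : Type*} [Group M] [MulAction M X] {gen : ℕ → M} {x₀ : X} {D : Data}

theorem hyp_of_hints {rels subs : List (List ℕ)} {hints : List (ℕ × ℕ × Bool)}
    (hinv : ∀ g, g < D.ng → gen g * gen g = 1)
    (hrels : ∀ w ∈ rels, act gen w = 1) (hsubs : ∀ w ∈ subs, act gen w • x₀ = x₀)
    (h1 : hintsOk D rels hints = true) (h2 : marksOk D subs = true) : Hyp D gen x₀ := by
  simp only [hintsOk, Bool.and_eq_true, List.all_eq_true, Nat.blt_eq, Nat.ble_eq, List.mem_range,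
    Bool.or_eq_true, decide_eq_true_eq] at h1
  obtain ⟨⟨-, hl⟩, h1⟩ := h1
  refine ⟨hinv, fun r hr x => ?_, fun r hr => ?_⟩
  · have hv : act gen (rels.getD (hints.getD r (0, 0, false)).1 []) = 1 ∧
        ∀ g ∈ rels.getD (hints.getD r (0, 0, false)).1 [], g < D.ng := by
      by_cases hlt : (hints.getD r (0, 0, false)).1 < rels.length
      · rw [List.getD_eq_getElem _ _ hlt]
        exact ⟨hrels _ (List.getElem_mem hlt), hl _ (List.getElem_mem hlt)⟩
      · rw [List.getD_eq_default _ _ (Nat.le_of_not_lt hlt)]
        exact ⟨act_nil gen, fun g hg => absurd hg List.not_mem_nil⟩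
    have key : act gen (fullWord D r) = 1 := by
      rcases h1 r hr with e | e
      · rw [e, act_nil]
      · rw [e]
        refine act_rotate ?_ _
        split_ifs
        · rw [act_reverse hinv hv.2, hv.1, inv_one]
        · exact hv.1
    rw [fullWord] at key
    rw [key, one_smul]
  · simp only [marksOk, List.all_eq_true, List.mem_range, Bool.or_eq_true, Nat.blt_eq,
      decide_eq_true_eq, List.any_eq_true] at h2
    show act gen (fullWord D r) • x₀ = x₀
    by_cases ht : r < 16 * D.words.length
    · rcases h2 r ht with (e | e) | ⟨v, hv, e⟩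
      · omega
      · rw [e, act_nil, one_smul]
      · rw [e]; exact hsubs v hv
    · have e : wordAt D r = ([], D.ng, []) := by
        rw [wordAt, List.getD_eq_default _ _ (show D.words.length ≤ r / 16 by omega)]
        rfl
      simp [fullWord, e, act_nil]

/-- The end of a walk from a node, after identifications. -/
def endNode (D : Data) (f : ℕ) (w : List ℕ) : Option ℕ :=
  match walk D (D.rm - 1) f w with
  | some f' => some (root D (D.rm - 1) fuel f')
  | none => none

/-- A chain of images of one pair of nodes. -/
def chainEnd (D : Data) (r g : ℕ) : ℕ → List (List ℕ) → Option ℕ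
  | cur, [] => some cur
  | cur, w :: ch =>
    match endNode D r w, endNode D r (g :: w) with
    | some a, some b =>
      if Nat.beq cur a then chainEnd D r g b ch
      else if Nat.beq cur b then chainEnd D r g a ch else none
    | _, _ => none

/-- The check of a representative: its chain joins the first node to that of the target. -/
def repOk (D : Data) (gs : List ℕ) (e : ℕ × ℕ × List ℕ × List (List ℕ)) : Bool :=
  gs.contains e.2.1 && e.2.2.1.all (fun g => Nat.blt g D.ng) &&
    e.2.2.2.all (fun w => w.all fun g => Nat.blt g D.ng) &&
    match chainEnd D e.1 e.2.1 0 e.2.2.2, endNode D 0 e.2.2.1 with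
    | some a, some b => Nat.beq a b
    | _, _ => false

/-- The check at a live node: it is special, or its path leads to a representative. -/
def toOk (D : Data) (gs special : List ℕ) (reps : List (ℕ × ℕ × List ℕ × List (List ℕ)))
    (tos : List (List (ℕ × List ℕ))) (j : ℕ) : Bool :=
  let c := (tos.getD (j / 32) []).getD (j % 32) (0, [])
  special.contains (liveAt D j) ||
    (Nat.blt c.1 reps.length && c.2.all (fun g => gs.contains g && Nat.blt g D.ng) &&
      match endNode D (liveAt D j) c.2, reps[c.1]? with
      | some a, some e => Nat.beq a e.1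
      | _, _ => false)

/-- All checks for the fixed cosets of a table. -/
def fixedOk (D : Data) (gs special : List ℕ) (reps : List (ℕ × ℕ × List ℕ × List (List ℕ)))
    (tos : List (List (ℕ × List ℕ))) : Bool :=
  gs.all (fun g => Nat.blt g D.ng) && reps.all (repOk D gs) &&
    (List.range D.n).all (toOk D gs special reps tos)

theorem endNode_sound (V : Valid D) (H : Hyp D gen x₀) {f f' : ℕ} {w : List ℕ}
    (hw : ∀ g ∈ w, g < D.ng) (h : endNode D f w = some f') :
    act gen w • phi D gen x₀ f = phi D gen x₀ f' := by
  rw [endNode] at h
  split at h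
  · rename_i f1 e
    cases h
    rw [root_sound (below_top V H), walk_sound (below_top V H) hw e]
  · cases h

theorem chainEnd_sound (V : Valid D) (H : Hyp D gen x₀) {r g : ℕ} (hg : g < D.ng)
    (hfix : gen g • phi D gen x₀ r = phi D gen x₀ r) :
    ∀ {ch : List (List ℕ)} {cur d : ℕ}, (∀ w ∈ ch, ∀ a ∈ w, a < D.ng) →
      chainEnd D r g cur ch = some d → phi D gen x₀ d = phi D gen x₀ cur
  | [], cur, d, _, h => by
    rw [chainEnd] at h
    cases h; rfl
  | w :: ch, cur, d, hw, h => by
    rw [chainEnd] at h
    split at h
    · rename_i a b ha hb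
      have hwl := hw w List.mem_cons_self
      have e1 := endNode_sound V H hwl ha
      have e2 := endNode_sound V H (List.forall_mem_cons.2 ⟨hg, hwl⟩) hb
      rw [act_cons, mul_smul, hfix, e1] at e2
      simp only [Nat.beq_eq] at h
      have ht : ∀ v ∈ ch, ∀ a ∈ v, a < D.ng := fun v hv => hw v (List.mem_cons_of_mem _ hv)
      split_ifs at h with h1 h2
      · rw [chainEnd_sound V H hg hfix ht h, h1, e2]
      · rw [chainEnd_sound V H hg hfix ht h, h2, e2]
    · cases h

/-- A point of the orbit fixed by the subgroup generators is special, or one of the targets fixes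
the first point. -/
theorem fixed_cases {S : List (List ℕ)} (V : Closed D S) (H : Hyp D gen x₀)
    {gs special : List ℕ} {reps : List (ℕ × ℕ × List ℕ × List (List ℕ))}
    {tos : List (List (ℕ × List ℕ))} (hok : fixedOk D gs special reps tos = true) {m : M}
    (hm : m ∈ genGrp S gen) (hfix : ∀ g ∈ gs, gen g • (m • x₀) = m • x₀) :
    (∃ s ∈ special, m • x₀ = phi D gen x₀ s) ∨
      ∃ e ∈ reps, act gen e.2.2.1 • x₀ = x₀ := by
  obtain ⟨j, hj, ej⟩ := orbit_subset V H hm
  simp only [fixedOk, Bool.and_eq_true, List.all_eq_true, List.mem_range, Nat.blt_eq] at hok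
  obtain ⟨⟨hgs, hreps⟩, hto⟩ := hok
  have hj' := hto j hj
  simp only [toOk, Bool.or_eq_true, Bool.and_eq_true, List.contains_iff_mem, Nat.blt_eq,
    List.all_eq_true] at hj'
  rcases hj' with hs | ⟨⟨-, hw⟩, hend⟩
  · exact Or.inl ⟨_, hs, ej⟩
  split at hend
  · rename_i a e ha he
    have hemem : e ∈ reps := List.mem_of_getElem? he
    simp only [Nat.beq_eq] at hend
    have key := endNode_sound V.toValid H (fun g hg => (hw g hg).2) ha
    rw [hend, ← ej] at key
    have hact : ∀ w : List ℕ, (∀ g ∈ w, g ∈ gs) → act gen w • (m • x₀) = m • x₀ := by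
      intro w
      induction w with
      | nil => intro _; rw [act_nil, one_smul]
      | cons g w ih =>
        intro hgw
        rw [act_cons, mul_smul, hfix g (hgw g List.mem_cons_self),
          ih fun a ha' => hgw a (List.mem_cons_of_mem _ ha')]
    rw [hact _ fun g hg => (hw g hg).1] at key
    have hre := hreps e hemem
    simp only [repOk, Bool.and_eq_true, List.contains_iff_mem, List.all_eq_true, Nat.blt_eq] at hre
    obtain ⟨⟨⟨hg, ht⟩, hch⟩, hc⟩ := hre
    split at hc
    · rename_i c d hc1 hd
      simp only [Nat.beq_eq] at hc
      have hgf : gen e.2.1 • phi D gen x₀ e.1 = phi D gen x₀ e.1 := by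
        rw [← key]; exact hfix _ hg
      have e1 := chainEnd_sound V.toValid H (hgs _ hg) hgf hch hc1
      have e2 := endNode_sound V.toValid H ht hd
      rw [← hc, e1, phi_zero] at e2
      exact Or.inr ⟨e, hemem, e2⟩
    · exact Bool.noConfusion hc
  · exact Bool.noConfusion hend

/-- The Coxeter relators between listed nodes, in local numbers. -/
def coxRels (nodes : List ℕ) : List (List ℕ) :=
  (List.range nodes.length).flatMap fun i => (List.range nodes.length).filterMap fun j =>
    if i < j then
      some (List.replicate (if adjB (nodes.getD i 0) (nodes.getD j 0) then 3 else 2) [i, j]).flatten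
    else none

/-- A word in local numbers. -/
def loc (nodes : List ℕ) (w : List ℕ) : List ℕ := w.map fun a => nodes.idxOf a

/-- The relators of a table: the Coxeter relators and further ones. -/
def tabRels (nodes : List ℕ) (extra : List (List ℕ)) : List (List ℕ) :=
  coxRels nodes ++ extra.map (loc nodes)

namespace Sys

variable {G : Type*} [Group G] (S : Sys G)

/-- The generators of a table. -/
def tgen (nodes : List ℕ) (i : ℕ) : G := S.x (nodes.getD i 0)

theorem tgen_sq (nodes : List ℕ) (i : ℕ) : S.tgen nodes i * S.tgen nodes i = 1 := S.sq _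

theorem act_tgen (nodes w : List ℕ) :
    act (S.tgen nodes) w = ev S.x (w.map fun i => nodes.getD i 0).reverse := by
  rw [act_eq_ev, ← List.map_reverse, ← ev_map]
  rfl

theorem map_loc {nodes w : List ℕ} (h : w.all (fun a => nodes.contains a) = true) :
    (loc nodes w).map (fun i => nodes.getD i 0) = w := by
  simp only [List.all_eq_true, List.contains_iff_mem] at h
  rw [loc, List.map_map]
  refine (List.map_congr_left fun a ha => ?_).trans (List.map_id w)
  have hlt := List.idxOf_lt_length_iff.2 (h a ha)
  show nodes.getD (nodes.idxOf a) 0 = a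
  rw [List.getD_eq_getElem _ _ hlt, List.getElem_idxOf hlt]

theorem act_loc {nodes w : List ℕ} (h : w.all (fun a => nodes.contains a) = true) :
    act (S.tgen nodes) (loc nodes w) = ev S.x w.reverse := by
  rw [S.act_tgen, map_loc h]

theorem ev_pair (i j : ℕ) :
    ev S.x (List.replicate (if adjB i j then 3 else 2) [j, i]).flatten = 1 := by
  cases h : adjB i j
  · have hc := S.comm i j h
    simp only [Bool.false_eq_true, ite_false, List.replicate, List.flatten_cons, List.flatten_nil,
      List.cons_append, List.nil_append, ev_cons, ev_nil, mul_one]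
    rw [← mul_assoc (S.x i), hc, mul_assoc (S.x j) (S.x i), S.sq, mul_one, S.sq]
  · have hb := S.braid i j h
    simp only [ite_true, List.replicate, List.flatten_cons, List.flatten_nil,
      List.cons_append, List.nil_append, ev_cons, ev_nil, mul_one]
    calc S.x j * (S.x i * (S.x j * (S.x i * (S.x j * S.x i))))
        = S.x j * S.x i * S.x j * (S.x i * S.x j * S.x i) := by simp only [mul_assoc]
      _ = S.x j * S.x i * S.x j * (S.x j * S.x i * S.x j) := by rw [hb]
      _ = 1 := by
        simp only [mul_assoc]
        rw [← mul_assoc (S.x j) (S.x j), S.sq, one_mul, ← mul_assoc (S.x i) (S.x i), S.sq, one_mul,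
          S.sq]

theorem act_tabRels {nodes : List ℕ} {extra : List (List ℕ)}
    (hin : extra.all (fun w => w.all fun a => nodes.contains a) = true)
    (hex : ∀ w ∈ extra, ev S.x w = 1) :
    ∀ w ∈ tabRels nodes extra, act (S.tgen nodes) w = 1 := by
  intro w hw
  rcases List.mem_append.1 hw with hw | hw
  · simp only [coxRels, List.mem_flatMap, List.mem_filterMap] at hw
    obtain ⟨i, -, j, -, hw⟩ := hw
    by_cases hij : i < j
    · rw [if_pos hij] at hw
      cases hw
      rw [S.act_tgen, ← S.ev_pair (nodes.getD i 0) (nodes.getD j 0)]
      congr 1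
      cases adjB (nodes.getD i 0) (nodes.getD j 0) <;> simp [List.replicate]
    · rw [if_neg hij] at hw
      cases hw
  · obtain ⟨v, hv, rfl⟩ := List.mem_map.1 hw
    rw [S.act_loc (List.all_eq_true.1 hin v hv), ev_reverse S.sq, hex v hv, inv_one]

end Sys

end CfsgLib.Y555
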