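import Cfsg.Agent.Lib.Y555.Words
import Cfsg.Agent.Lib.Y555.CertData

/-!
# Kernel checks of the rewriting certificates
-/

set_option autoImplicit false
set_option maxRecDepth 100000

namespace CfsgLib.Y555

/-- The word of a conjugate. -/
def conjW (w v : List ℕ) : List ℕ := w ++ v ++ w.reverse

/-- The word of `x g x⁻¹ g`. -/
def commW (w : List ℕ) (g : ℕ) : List ℕ := w ++ [g] ++ w.reverse ++ [g]

/-- The word of `e₁ A e₁ A e₁`. -/
def wordSFull : List ℕ := [4] ++ wordA ++ [4] ++ wordA ++ [4]

/-- The word of `(A e₁)³`. -/
def wordZFull : List ℕ := (List.replicate 3 (wordA ++ [4])).flatten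

/-- The word of the translation `f₁ s`. -/
def wordU : List ℕ := 5 :: wordS

/-- A product of conjugates of the translation and its inverse. -/
def transW (T : List (List ℕ × Bool)) : List ℕ :=
  T.flatMap fun p => conjW p.1 (if p.2 then wordU else wordU.reverse)

variable {G : Type*} [Group G] (S : Sys G)

namespace Sys

theorem ev_spider_swap : ev S.x (conjW [11, 12, 11, 7, 2] spiderWord ++
    (List.replicate 10 [0, 6, 7, 0, 1, 2, 0, 11, 12]).flatten) = 1 :=
  S.ev_one_of_reduces (ops := certSpider) (by decide +kernel)

theorem ev_A_sq : ev S.x (wordA ++ wordA) = 1 :=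
  S.ev_one_of_reduces (ops := certASq) (by decide +kernel)

theorem ev_A_comm : ∀ g ∈ [0, 1, 2, 3, 6, 7, 11], ev S.x (commW wordA g) = 1 := by
  intro g hg
  fin_cases hg
  exacts [S.ev_one_of_reduces (ops := certA0) (by decide +kernel),
    S.ev_one_of_reduces (ops := certA1) (by decide +kernel),
    S.ev_one_of_reduces (ops := certA2) (by decide +kernel),
    S.ev_one_of_reduces (ops := certA3) (by decide +kernel),
    S.ev_one_of_reduces (ops := certA6) (by decide +kernel),
    S.ev_one_of_reduces (ops := certA7) (by decide +kernel),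
    S.ev_one_of_reduces (ops := certA11) (by decide +kernel)]

theorem ev_Z_eq : ev S.x (wordZFull ++ wordZ.reverse) = 1 :=
  S.ev_one_of_reduces (ops := certZ) (by decide +kernel)

theorem ev_Z_comm : ∀ g ∈ [0, 1, 2, 3, 4, 6, 7, 11], ev S.x (commW wordZ g) = 1 := by
  intro g hg
  fin_cases hg
  exacts [S.ev_one_of_reduces (ops := certZ0) (by decide +kernel),
    S.ev_one_of_reduces (ops := certZ1) (by decide +kernel),
    S.ev_one_of_reduces (ops := certZ2) (by decide +kernel),
    S.ev_one_of_reduces (ops := certZ3) (by decide +kernel),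
    S.ev_one_of_reduces (ops := certZ4) (by decide +kernel),
    S.ev_one_of_reduces (ops := certZ6) (by decide +kernel),
    S.ev_one_of_reduces (ops := certZ7) (by decide +kernel),
    S.ev_one_of_reduces (ops := certZ11) (by decide +kernel)]

theorem ev_S_eq : ev S.x (wordSFull ++ wordS.reverse) = 1 :=
  S.ev_one_of_reduces (ops := certS) (by decide +kernel)

theorem ev_R_comm : ∀ g ∈ [3, 2, 1, 0, 6], ev S.x (commW wordR g) = 1 := by
  intro g hg
  fin_cases hg
  exacts [S.ev_one_of_reduces (ops := certR3) (by decide +kernel),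
    S.ev_one_of_reduces (ops := certR2) (by decide +kernel),
    S.ev_one_of_reduces (ops := certR1) (by decide +kernel),
    S.ev_one_of_reduces (ops := certR0) (by decide +kernel),
    S.ev_one_of_reduces (ops := certR6) (by decide +kernel)]

theorem ev_two_swap : ev S.x ([7] ++ transW twoP ++ [7] ++ (transW twoQ).reverse) = 1 :=
  S.ev_one_of_reduces (ops := certTwoA) (by decide +kernel)

theorem ev_two_pow : ev S.x ((transW twoP).reverse ++ transW twoQ ++
    ((List.replicate 2 (conjW twoW wordU)).flatten).reverse) = 1 :=
  S.ev_one_of_reduces (ops := certTwoB) (by decide +kernel)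

theorem ev_three_swap : ev S.x ([11] ++ transW threeP ++ [11] ++ (transW threeQ).reverse) = 1 :=
  S.ev_one_of_reduces (ops := certThreeA) (by decide +kernel)

theorem ev_three_pow : ev S.x ((transW threeP).reverse ++ transW threeQ ++
    ((List.replicate 3 (conjW threeW wordU)).flatten).reverse) = 1 :=
  S.ev_one_of_reduces (ops := certThreeB) (by decide +kernel)

end Sys

end CfsgLib.Y555
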