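import Mathlib

/-!
# Chains of braiding involutions

In the image of a symmetric group given by a chain of involutions, continued by one further
involution and without commuting neighbours, only the identity commutes with all but the last.
-/

set_option autoImplicit false

namespace CfsgLib.Y555

variable {G : Type*} [Group G] (g : ℕ → G)

/-- The subgroup generated by the first `i` members. -/
def initSub (i : ℕ) : Subgroup G := Subgroup.closure {a | ∃ j < i, g j = a}

theorem mem_initSub {i j : ℕ} (h : j < i) : g j ∈ initSub g i :=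
  Subgroup.subset_closure ⟨j, h, rfl⟩

theorem initSub_zero : initSub g 0 = ⊥ := by simp [initSub]

variable {g}

theorem commute_initSub {i : ℕ} {k a : G} (h : ∀ j < i, Commute k (g j)) (ha : a ∈ initSub g i) :
    Commute k a := by
  induction ha using Subgroup.closure_induction with
  | mem b hb => obtain ⟨j, hj, rfl⟩ := hb; exact h j hj
  | one => exact Commute.one_right k
  | mul b c _ _ hb hc => exact hb.mul_right hc
  | inv b _ hb => exact hb.inv_right

variable {n : ℕ} (hsq : ∀ i, g i * g i = 1)
  (hcomm : ∀ i j, i + 2 ≤ j → j ≤ n + 1 → Commute (g i) (g j))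
  (hbraid : ∀ i ≤ n, g i * g (i + 1) * g i = g (i + 1) * g i * g (i + 1))
  (hnc : ∀ i ≤ n, ¬ Commute (g i) (g (i + 1)))

include hsq hcomm hbraid

/-- The double cosets of the previous subgroup. -/
theorem initSub_cases : ∀ (i : ℕ), i ≤ n → ∀ k ∈ initSub g (i + 1),
    k ∈ initSub g i ∨ ∃ a ∈ initSub g i, ∃ b ∈ initSub g i, k = a * g i * b := by
  intro i
  induction i with
  | zero =>
    intro _ k hk
    induction hk using Subgroup.closure_induction_left with
    | one => exact Or.inl (one_mem _)
    | mul_left s hs y _ ih =>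
      obtain ⟨j, hj, rfl⟩ := hs
      obtain rfl : j = 0 := by omega
      rcases ih with h | ⟨a, ha, b, hb, rfl⟩
      · exact Or.inr ⟨1, one_mem _, y, h, by rw [one_mul]⟩
      · rw [initSub_zero, Subgroup.mem_bot] at ha hb
        exact Or.inl (by simp [ha, hb, hsq])
    | inv_mul_cancel s hs y _ ih =>
      obtain ⟨j, hj, rfl⟩ := hs
      obtain rfl : j = 0 := by omega
      rw [inv_eq_of_mul_eq_one_right (hsq 0)]
      rcases ih with h | ⟨a, ha, b, hb, rfl⟩
      · exact Or.inr ⟨1, one_mem _, y, h, by rw [one_mul]⟩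
      · rw [initSub_zero, Subgroup.mem_bot] at ha hb
        exact Or.inl (by simp [ha, hb, hsq])
  | succ i ih =>
    intro hi k hk
    have hleft : ∀ j < i + 2, ∀ y, (y ∈ initSub g (i + 1) ∨
        ∃ a ∈ initSub g (i + 1), ∃ b ∈ initSub g (i + 1), y = a * g (i + 1) * b) →
        (g j * y ∈ initSub g (i + 1) ∨
        ∃ a ∈ initSub g (i + 1), ∃ b ∈ initSub g (i + 1), g j * y = a * g (i + 1) * b) := by
      intro j hj y hy
      rcases Nat.lt_or_eq_of_le (Nat.le_of_lt_succ hj) with h | rfl
      · rcases hy with hy | ⟨a, ha, b, hb, rfl⟩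
        · exact Or.inl (mul_mem (mem_initSub g h) hy)
        · exact Or.inr ⟨g j * a, mul_mem (mem_initSub g h) ha, b, hb, by simp only [mul_assoc]⟩
      rcases hy with hy | ⟨a, ha, b, hb, rfl⟩
      · exact Or.inr ⟨1, one_mem _, y, hy, by rw [one_mul]⟩
      have hc : ∀ c ∈ initSub g i, Commute (g (i + 1)) c := fun c hc =>
        commute_initSub (fun l hl => (hcomm l (i + 1) (by omega) (by omega)).symm) hc
      have mono : ∀ c ∈ initSub g i, c ∈ initSub g (i + 1) := by
        intro c hc
        refine Subgroup.closure_mono ?_ hc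
        rintro x ⟨l, hl, rfl⟩
        exact ⟨l, by omega, rfl⟩
      rcases ih (by omega) a ha with h | ⟨c, hc1, d, hd, rfl⟩
      · left
        have e : g (i + 1) * (a * g (i + 1) * b) = a * b := by
          rw [← mul_assoc, ← mul_assoc, (hc a h).eq, mul_assoc a, hsq, mul_one]
        rw [e]
        exact mul_mem ha hb
      · right
        refine ⟨c * g i, mul_mem (mono c hc1) (mem_initSub g (Nat.lt_succ_self i)),
          g i * d * b, mul_mem (mul_mem (mem_initSub g (Nat.lt_succ_self i)) (mono d hd)) hb, ?_⟩
        have e1 := (hc c hc1).eq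
        have e2 := (hc d hd).eq
        calc g (i + 1) * (c * g i * d * g (i + 1) * b)
            = c * (g (i + 1) * g i * g (i + 1)) * d * b := by
              simp only [mul_assoc]
              rw [← mul_assoc (g (i + 1)) c, e1, ← mul_assoc d (g (i + 1)), ← e2]
              simp only [mul_assoc]
          _ = c * g i * g (i + 1) * (g i * d * b) := by
              rw [← hbraid i (by omega)]
              simp only [mul_assoc]
    induction hk using Subgroup.closure_induction_left with
    | one => exact Or.inl (one_mem _)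
    | mul_left s hs y _ ih' =>
      obtain ⟨j, hj, rfl⟩ := hs
      exact hleft j hj y ih'
    | inv_mul_cancel s hs y _ ih' =>
      obtain ⟨j, hj, rfl⟩ := hs
      rw [inv_eq_of_mul_eq_one_right (hsq j)]
      exact hleft j hj y ih'

include hnc

theorem mem_of_commute {i : ℕ} (h1 : 1 ≤ i) (hi : i ≤ n) {k : G} (hk : k ∈ initSub g (i + 1))
    (hc : ∀ j < i, Commute k (g j)) : k ∈ initSub g i := by
  rcases initSub_cases hsq hcomm hbraid i hi k hk with h | ⟨a, ha, b, hb, he⟩
  · exact h
  exfalso
  have hka := commute_initSub hc ha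
  have hk' : k = g i * (b * a) := by
    have : a⁻¹ * k * a = k := by rw [mul_assoc, hka.eq, inv_mul_cancel_left]
    calc k = a⁻¹ * k * a := this.symm
      _ = g i * (b * a) := by rw [he]; simp [mul_assoc]
  set c := (b * a)⁻¹ with hcdef
  have hcm : c ∈ initSub g i := inv_mem (mul_mem hb ha)
  have hgi : g i = k * c := by rw [hk', hcdef, mul_inv_cancel_right]
  obtain ⟨l, rfl⟩ : ∃ l, i = l + 1 := ⟨i - 1, by omega⟩
  have hgl := mem_initSub g (Nat.lt_succ_self l)
  have hm : c * g l * c⁻¹ ∈ initSub g (l + 1) := mul_mem (mul_mem hcm hgl) (inv_mem hcm)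
  have e : g (l + 1) * g l * g (l + 1) = c * g l * c⁻¹ := by
    have hinv : g (l + 1) = (g (l + 1))⁻¹ := (inv_eq_of_mul_eq_one_right (hsq _)).symm
    conv_lhs => arg 2; rw [hinv]
    rw [hgi, mul_inv_rev]
    calc k * c * g l * (c⁻¹ * k⁻¹) = k * (c * g l * c⁻¹) * k⁻¹ := by simp only [mul_assoc]
      _ = c * g l * c⁻¹ := by rw [(commute_initSub hc hm).eq, mul_inv_cancel_right]
  rw [← hbraid l (by omega)] at e
  have hmem : g (l + 1) ∈ initSub g (l + 1) := by
    have h2 := mul_mem (mul_mem hgl (e ▸ hm)) hgl
    have e2 : g l * (g l * g (l + 1) * g l) * g l = g (l + 1) := by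
      simp only [mul_assoc]
      rw [hsq, mul_one, ← mul_assoc, hsq, one_mul]
    rwa [e2] at h2
  exact hnc (l + 1) hi (commute_initSub (fun j hj => (hcomm j _ (by omega) (by omega)).symm) hmem).symm

/-- Only the identity commutes with all members but the last. -/
theorem eq_one_of_commute (hn : 2 ≤ n) {k : G} (hk : k ∈ initSub g (n + 1))
    (hc : ∀ j < n, Commute k (g j)) : k = 1 := by
  have key : ∀ d, d ≤ n → k ∈ initSub g (n + 1 - d) := by
    intro d
    induction d with
    | zero => exact fun _ => hk
    | succ d ih =>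
      intro hd
      have h' := ih (by omega)
      rw [show n + 1 - d = (n + 1 - (d + 1)) + 1 by omega] at h'
      exact mem_of_commute hsq hcomm hbraid hnc (by omega) (by omega) h'
        fun j hj => hc j (by omega)
  have h1 := key n le_rfl
  rw [show n + 1 - n = 0 + 1 by omega] at h1
  rcases initSub_cases hsq hcomm hbraid 0 (Nat.zero_le _) k h1 with h | ⟨a, ha, b, hb, rfl⟩
  · rwa [initSub_zero, Subgroup.mem_bot] at h
  · rw [initSub_zero, Subgroup.mem_bot] at ha hb
    refine absurd ?_ (hnc 0 (Nat.zero_le _))
    have := hc 1 (by omega)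
    simpa [ha, hb] using this

end CfsgLib.Y555
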