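import Cfsg.Agent.Lib.Y555.CertCheck

/-!
# The symmetries of the arms
-/

set_option autoImplicit false

namespace CfsgLib.Y555

/-- The exchange of the first two arms. -/
def swapOneTwo (i : ℕ) : ℕ :=
  if i = 0 then 0 else if i ≤ 5 then i + 5 else if i ≤ 10 then i - 5 else i

/-- The exchange of the last two arms. -/
def swapTwoThree (i : ℕ) : ℕ :=
  if i ≤ 5 then i else if i ≤ 10 then i + 5 else if i ≤ 15 then i - 5 else i

theorem adjB_map {p : ℕ → ℕ} (hlt : ∀ i, i < 16 ↔ p i < 16)
    (hdec : ((List.range 16).all fun i => (List.range 16).all fun j =>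
      adjB (p i) (p j) == adjB i j) = true) (i j : ℕ) : adjB (p i) (p j) = adjB i j := by
  by_cases h : i < 16 ∧ j < 16
  · simp only [List.all_eq_true, List.mem_range, beq_iff_eq] at hdec
    exact hdec i h.1 j h.2
  · have h1 : adjB i j = false := by
      rw [← Bool.not_eq_true]; exact fun e => h (adjB_lt e)
    have h2 : adjB (p i) (p j) = false := by
      rw [← Bool.not_eq_true]
      exact fun e => h ⟨(hlt i).2 (adjB_lt e).1, (hlt j).2 (adjB_lt e).2⟩
    rw [h1, h2]

theorem adjB_swapOneTwo (i j : ℕ) : adjB (swapOneTwo i) (swapOneTwo j) = adjB i j :=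
  adjB_map (fun k => by unfold swapOneTwo; split_ifs <;> omega) (by decide +kernel) i j

theorem adjB_swapTwoThree (i j : ℕ) : adjB (swapTwoThree i) (swapTwoThree j) = adjB i j :=
  adjB_map (fun k => by unfold swapTwoThree; split_ifs <;> omega) (by decide +kernel) i j

namespace Sys

variable {G : Type*} [Group G] (S : Sys G)

theorem spider_two : ev S.x (spiderWord.map swapOneTwo) = 1 := by
  have h := S.ev_spider_swap
  rw [conjW, ev_append, ev_append, ev_append, S.spider, mul_one, ev_reverse S.sq, mul_inv_cancel,
    one_mul] at h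
  rwa [show spiderWord.map swapOneTwo =
    (List.replicate 10 [0, 6, 7, 0, 1, 2, 0, 11, 12]).flatten by decide +kernel]

theorem spider_three : ev S.x (spiderWord.map swapTwoThree) = 1 := by
  have h := S.spider_two
  have e : spiderWord.map swapTwoThree = (spiderWord.map swapOneTwo).rotate 3 := by decide +kernel
  rw [e, List.rotate_eq_drop_append_take_mod, ev_append]
  rw [← List.take_append_drop (3 % (spiderWord.map swapOneTwo).length)
    (spiderWord.map swapOneTwo), ev_append] at h
  exact mul_eq_one_comm.1 h

/-- The system with the first two arms exchanged. -/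
def swap12 : Sys G where
  x i := S.x (swapOneTwo i)
  sq i := S.sq _
  comm i j h := S.comm _ _ ((adjB_swapOneTwo i j).trans h)
  braid i j h := S.braid _ _ ((adjB_swapOneTwo i j).trans h)
  spider := by rw [ev_map]; exact S.spider_two

/-- The system with the last two arms exchanged. -/
def swap23 : Sys G where
  x i := S.x (swapTwoThree i)
  sq i := S.sq _
  comm i j h := S.comm _ _ ((adjB_swapTwoThree i j).trans h)
  braid i j h := S.braid _ _ ((adjB_swapTwoThree i j).trans h)
  spider := by rw [ev_map]; exact S.spider_three

end Sys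

end CfsgLib.Y555
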