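import Cfsg.Agent.Lib.Y555.CertCheck
import Cfsg.Agent.Lib.Y555.Tables
import Cfsg.Agent.Lib.Y555.Swaps
import Cfsg.Agent.Lib.Y555.TabSeven

/-!
# Kernel checks of `tabSeven`
-/

set_option autoImplicit false
set_option maxRecDepth 100000

namespace CfsgLib.Y555

open CfsgLib.PresCert

/-- The further relators. -/
def tabSevenExtra : List (List ℕ) :=
  []

/-- The subgroup words. -/
def tabSevenSubs : List (List ℕ) :=
  [0, 1, 2, 3, 6, 7].map fun a => [tabSevenNode.idxOf a]

theorem tabSeven_block0 : block tabSeven 0 = true := by decide +kernel

theorem tabSeven_shape : shapeOk tabSeven = true := by decide +kernel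

theorem tabSeven_extra : tabSevenExtra.all (fun w => w.all fun a => tabSevenNode.contains a) = true := by
  decide +kernel

theorem tabSeven_hints : hintsOk tabSeven (tabRels tabSevenNode tabSevenExtra) tabSevenHints = true := by
  decide +kernel

theorem tabSeven_marks : marksOk tabSeven tabSevenSubs = true := by decide +kernel

theorem tabSeven_valid : Valid tabSeven where
  shape := tabSeven_shape
  slots b hb := by
    have h : tabSeven.N = 640 := rfl
    obtain rfl : b = 0 := by omega
    exact tabSeven_block0

/-- The words under which the live nodes are closed. -/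
def tabSevenClose : List (List ℕ) :=
  [0, 1, 2, 3, 6, 7, 11].map fun a => [tabSevenNode.idxOf a]

theorem tabSeven_closedBlock : closedBlock tabSeven tabSevenClose 0 = true := by decide +kernel

theorem tabSeven_closed : Closed tabSeven tabSevenClose where
  toValid := tabSeven_valid
  words := by decide +kernel
  closed b hb := by
    have h : tabSeven.n = 576 := rfl
    obtain rfl : b = 0 := by omega
    exact tabSeven_closedBlock

theorem tabSeven_fixed : fixedOk tabSeven ([0, 1, 2, 3, 6, 7].map tabSevenNode.idxOf)
    tabSevenFixed tabSevenReps tabSevenTo = true := by decide +kernel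

theorem tabSeven_A : endNode tabSeven 0 (loc tabSevenNode wordA.reverse) = some 630 := by
  decide +kernel

end CfsgLib.Y555
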