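import Cfsg.Agent.Lib.Y555.TabHCheck
import Cfsg.Agent.Lib.Y555.TabSevenCheck
import Cfsg.Agent.Lib.Y555.Chain

/-!
# The ninth power `A` of the Coxeter element of E₇ in a Y₅₅₅ system

Without commuting neighbours, an element of the E₇ image commuting with the image of the symmetric
group of degree seven is `1` or `A`; hence `A` commutes with `c₃` and does not change when the last
two arms are exchanged.
-/

set_option autoImplicit false
set_option maxRecDepth 100000

namespace CfsgLib.Y555

open CfsgLib.PresCert

/-- The nodes of E₇. -/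
def nodesE7 : List ℕ := [0, 1, 2, 3, 6, 7, 11]

/-- The nodes of the chain of six involutions. -/
def nodesSeven : List ℕ := [0, 1, 2, 3, 6, 7]

theorem smul_coset_one {G : Type*} [Group G] {K : Subgroup G} {a : G} :
    a • ((1 : G) : G ⧸ K) = ((1 : G) : G ⧸ K) ↔ a ∈ K := by
  rw [MulAction.Quotient.smul_coe, smul_eq_mul, mul_one, QuotientGroup.eq]
  simp

namespace Sys

variable {G : Type*} [Group G] (S : Sys G)

/-- No two neighbours commute. -/
def NC : Prop := ∀ i j, adjB i j = true → ¬ Commute (S.x i) (S.x j)

/-- The subgroup generated by the listed nodes. -/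
def sub (L : List ℕ) : Subgroup G := Subgroup.closure {a | ∃ i ∈ L, S.x i = a}

theorem mem_sub {L : List ℕ} {i : ℕ} (h : i ∈ L) : S.x i ∈ S.sub L :=
  Subgroup.subset_closure ⟨i, h, rfl⟩

theorem ev_mem_sub {L w : List ℕ} (h : w.all (fun i => L.contains i) = true) :
    ev S.x w ∈ S.sub L := by
  simp only [List.all_eq_true, List.contains_iff_mem] at h
  exact ev_mem fun i hi => S.mem_sub (h i hi)

theorem sub_mono {L L' : List ℕ} (h : ∀ i ∈ L, i ∈ L') : S.sub L ≤ S.sub L' :=
  Subgroup.closure_mono fun _ ⟨i, hi, e⟩ => ⟨i, h i hi, e⟩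

theorem commute_sub {L : List ℕ} {a k : G} (h : ∀ i ∈ L, Commute a (S.x i)) (hk : k ∈ S.sub L) :
    Commute a k := by
  induction hk using Subgroup.closure_induction with
  | mem b hb => obtain ⟨i, hi, rfl⟩ := hb; exact h i hi
  | one => exact Commute.one_right a
  | mul b c _ _ hb hc => exact hb.mul_right hc
  | inv b _ hb => exact hb.inv_right

theorem commute_x {i j : ℕ} (h : adjB i j = false) : Commute (S.x i) (S.x j) := S.comm i j h

theorem commute_word {i : ℕ} {w : List ℕ} (h : w.all (fun j => !adjB i j) = true) :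
    Commute (S.x i) (ev S.x w) := by
  simp only [List.all_eq_true, Bool.not_eq_true'] at h
  exact ev_commute fun j hj => S.commute_x (h j hj)

theorem commute_of_commW {w : List ℕ} {g : ℕ} (h : ev S.x (commW w g) = 1) :
    Commute (ev S.x w) (S.x g) := by
  rw [commW, ev_append, ev_append, ev_append, ev_single, ev_reverse S.sq] at h
  have h' : ev S.x w * S.x g * (ev S.x w)⁻¹ = S.x g := by
    rw [eq_inv_of_mul_eq_one_left h]
    exact inv_eq_of_mul_eq_one_right (S.sq g)
  exact mul_inv_eq_iff_eq_mul.1 h'

theorem ev_commW {w : List ℕ} {g : ℕ} (h : Commute (ev S.x w) (S.x g)) :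
    ev S.x (commW w g) = 1 := by
  rw [commW, ev_append, ev_append, ev_append, ev_single, ev_reverse S.sq, h.eq,
    mul_inv_cancel_right, S.sq]

theorem eq_of_ev {u w : List ℕ} (h : ev S.x (u ++ w.reverse) = 1) : ev S.x u = ev S.x w := by
  rwa [ev_append, ev_reverse S.sq, mul_inv_eq_one] at h

theorem tgen_idxOf {nodes : List ℕ} {a : ℕ} (h : a ∈ nodes) :
    S.tgen nodes (nodes.idxOf a) = S.x a := by
  have hlt := List.idxOf_lt_length_iff.2 h
  rw [tgen, List.getD_eq_getElem _ _ hlt, List.getElem_idxOf hlt]

theorem sub_le_genGrp {nodes L : List ℕ} (h : L.all (fun a => nodes.contains a) = true) :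
    S.sub L ≤ genGrp (L.map fun a => [nodes.idxOf a]) (S.tgen nodes) := by
  simp only [List.all_eq_true, List.contains_iff_mem] at h
  refine (Subgroup.closure_le _).2 ?_
  rintro _ ⟨i, hi, rfl⟩
  refine Subgroup.subset_closure ⟨_, List.mem_map.2 ⟨i, hi, rfl⟩, ?_⟩
  rw [act_cons, act_nil, one_mul, S.tgen_idxOf (h i hi)]

theorem hyp_tab {D : Data} {nodes L : List ℕ} {extra : List (List ℕ)}
    {hints : List (ℕ × ℕ × Bool)}
    (hin : extra.all (fun w => w.all fun a => nodes.contains a) = true)
    (hL : L.all (fun a => nodes.contains a) = true)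
    (h1 : hintsOk D (tabRels nodes extra) hints = true)
    (h2 : marksOk D (L.map fun a => [nodes.idxOf a]) = true)
    (hex : ∀ w ∈ extra, ev S.x w = 1) :
    Hyp D (S.tgen nodes) ((1 : G) : G ⧸ S.sub L) := by
  simp only [List.all_eq_true, List.contains_iff_mem] at hL
  refine hyp_of_hints (fun g _ => S.tgen_sq nodes g) (S.act_tabRels hin hex) ?_ h1 h2
  intro w hw
  obtain ⟨a, ha, rfl⟩ := List.mem_map.1 hw
  rw [smul_coset_one, act_cons, act_nil, one_mul, S.tgen_idxOf (hL a ha)]
  exact S.mem_sub ha

/-- The element `A`. -/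
def elA : G := ev S.x wordA

theorem elA_inv : S.elA⁻¹ = S.elA := by
  have h := S.ev_A_sq
  rw [ev_append] at h
  exact inv_eq_of_mul_eq_one_right h

theorem elA_comm {g : ℕ} (h : g ∈ nodesE7) : Commute S.elA (S.x g) :=
  S.commute_of_commW (S.ev_A_comm g h)

theorem elA_mem : S.elA ∈ S.sub nodesE7 := S.ev_mem_sub (by decide +kernel)

theorem hypSeven : Hyp tabSeven (S.tgen tabSevenNode) ((1 : G) : G ⧸ S.sub nodesSeven) :=
  S.hyp_tab tabSeven_extra (by decide +kernel) tabSeven_hints tabSeven_marks
    fun _ hw => absurd hw List.not_mem_nil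

theorem hypH : Hyp tabH (S.tgen tabHNode) ((1 : G) : G ⧸ S.sub nodesE7) :=
  S.hyp_tab tabH_extra (by decide +kernel) tabH_hints tabH_marks fun w hw => by
    simp only [tabHExtra, List.mem_cons, List.not_mem_nil, or_false] at hw
    rcases hw with rfl | rfl
    exacts [S.spider, S.spider_two]

variable {S}

/-- The image of the symmetric group of degree seven has no further element commuting with five of
its six generators. -/
theorem seven_trivial (hnc : S.NC) {k : G} (hk : k ∈ S.sub nodesSeven)
    (hc : ∀ i ∈ [3, 2, 1, 0, 6], Commute k (S.x i)) : k = 1 := by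
  let c : List ℕ := [3, 2, 1, 0, 6, 7, 8]
  refine eq_one_of_commute (g := fun j => S.x (c.getD j 16)) (n := 5) (fun i => S.sq _) ?_ ?_ ?_
    (by norm_num) ?_ ?_
  · intro i j hij hj
    refine S.commute_x ?_
    have : ∀ j ≤ 6, ∀ i < j - 1, adjB (c.getD i 16) (c.getD j 16) = false := by decide +kernel
    exact this j hj i (by omega)
  · intro i hi
    refine S.braid _ _ ?_
    have : ∀ i ≤ 5, adjB (c.getD i 16) (c.getD (i + 1) 16) = true := by decide +kernel
    exact this i hi
  · intro i hi
    refine hnc _ _ ?_
    have : ∀ i ≤ 5, adjB (c.getD i 16) (c.getD (i + 1) 16) = true := by decide +kernel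
    exact this i hi
  · refine (Subgroup.closure_mono ?_) hk
    rintro _ ⟨i, hi, rfl⟩
    have : ∀ i ∈ nodesSeven, ∃ j < 6, c.getD j 16 = i := by decide +kernel
    obtain ⟨j, hj, e⟩ := this i hi
    exact ⟨j, hj, by rw [← e]⟩
  · intro j hj
    refine hc _ ?_
    have : ∀ j < 5, c.getD j 16 ∈ [3, 2, 1, 0, 6] := by decide +kernel
    exact this j hj

/-- An element of the E₇ image commuting with the chain of six is `1` or `A`. -/
theorem seven_cases (hnc : S.NC) {m : G} (hm : m ∈ S.sub nodesE7)
    (hc : ∀ i ∈ nodesSeven, Commute m (S.x i)) : m = 1 ∨ m = S.elA := by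
  have hsub : ∀ i ∈ [3, 2, 1, 0, 6], i ∈ nodesSeven := by decide +kernel
  have hE : ∀ i ∈ nodesSeven, i ∈ nodesE7 := by decide +kernel
  have hfix : ∀ g ∈ nodesSeven.map tabSevenNode.idxOf, S.tgen tabSevenNode g •
      (m • ((1 : G) : G ⧸ S.sub nodesSeven)) = m • ((1 : G) : G ⧸ S.sub nodesSeven) := by
    intro g hg
    obtain ⟨a, ha, rfl⟩ := List.mem_map.1 hg
    rw [S.tgen_idxOf ((show ∀ a ∈ nodesSeven, a ∈ tabSevenNode by decide +kernel) a ha),
      ← mul_smul, ← (hc a ha).eq, mul_smul, smul_coset_one.2 (S.mem_sub ha)]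
  rcases fixed_cases tabSeven_closed S.hypSeven tabSeven_fixed
      (m := m) (S.sub_le_genGrp (L := nodesE7) (by decide +kernel) hm) hfix with
    ⟨s, hs, he⟩ | ⟨e, he, ht⟩
  · simp only [tabSevenFixed, List.mem_cons, List.not_mem_nil, or_false] at hs
    rcases hs with rfl | rfl
    · rw [phi_zero, smul_coset_one] at he
      exact Or.inl (seven_trivial hnc he fun i hi => hc i (hsub i hi))
    · right
      have hA := endNode_sound tabSeven_closed.toValid S.hypSeven (by decide +kernel) tabSeven_A
      rw [phi_zero, S.act_loc (by decide +kernel), List.reverse_reverse, ← he] at hA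
      have hk : S.elA⁻¹ * m ∈ S.sub nodesSeven := by
        rw [MulAction.Quotient.smul_coe, MulAction.Quotient.smul_coe, smul_eq_mul, smul_eq_mul,
          mul_one, mul_one, QuotientGroup.eq] at hA
        exact hA
      have := seven_trivial hnc hk fun i hi =>
        (S.elA_comm (hE i (hsub i hi))).inv_left.mul_left (hc i (hsub i hi))
      exact (inv_mul_eq_one.1 this).symm
  · rw [smul_coset_one] at ht
    have hcases : ∀ e ∈ tabSevenReps, e.2.2.1 = loc tabSevenNode [11] ∨
        e.2.2.1 = loc tabSevenNode wordR.reverse := by decide +kernel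
    rcases hcases e he with h | h
    · rw [h, S.act_loc (by decide +kernel), List.reverse_singleton, ev_single] at ht
      refine absurd (S.commute_sub (fun i hi => ?_) ht) (hnc 12 11 (by decide +kernel))
      have : ∀ i ∈ nodesSeven, adjB 12 i = false := by decide +kernel
      exact S.commute_x (this i hi)
    · rw [h, S.act_loc (by decide +kernel), List.reverse_reverse] at ht
      have h1 := seven_trivial hnc ht fun i hi => S.commute_of_commW (S.ev_R_comm i hi)
      rw [show wordR = conjW (wordR.take 16) [3] by decide +kernel, conjW, ev_append, ev_append,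
        ev_reverse S.sq, ev_single, conj_eq_one_iff] at h1
      exact absurd (h1 ▸ Commute.one_left _) (hnc 3 2 (by decide +kernel))

/-- `A` commutes with `c₃`. -/
theorem elA_comm12 (hnc : S.NC) : Commute S.elA (S.x 12) := by
  set h := S.x 12 * S.elA * S.x 12 with hdef
  have hw : ev S.x ([12] ++ wordA ++ [12]) = h := by
    rw [ev_append, ev_append, ev_single, hdef]; rfl
  have hmem : h ∈ S.sub nodesE7 := by
    have := word_fix tabH_valid S.hypH (w := loc tabHNode ([12] ++ wordA ++ [12]).reverse)
      (by decide +kernel) tabH_h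
    rwa [smul_coset_one, S.act_loc (by decide +kernel), List.reverse_reverse, hw] at this
  have hc : ∀ i ∈ nodesSeven, Commute h (S.x i) := by
    intro i hi
    have h12 : ∀ i ∈ nodesSeven, adjB 12 i = false ∧ i ∈ nodesE7 := by decide +kernel
    have c1 := S.commute_x (h12 i hi).1
    exact (c1.mul_left (S.elA_comm (h12 i hi).2)).mul_left c1
  rcases seven_cases hnc hmem hc with e | e
  · have : S.elA = 1 := by
      have e2 : S.x 12 * h * S.x 12 = S.elA := by
        rw [hdef]; simp only [mul_assoc]; rw [S.sq, mul_one, ← mul_assoc, S.sq, one_mul]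
      rw [← e2, e, mul_one, S.sq]
    rw [this]
    exact Commute.one_left _
  · have e2 : S.x 12 * S.elA = S.elA * S.x 12 := by
      conv_rhs => rw [← e, hdef]
      rw [mul_assoc (S.x 12 * S.elA), S.sq, mul_one]
    exact e2.symm

/-- The neighbours of the exchanged system do not commute. -/
theorem NC.swap12 (hnc : S.NC) : S.swap12.NC := fun i j h =>
  hnc _ _ ((adjB_swapOneTwo i j).trans h)

theorem NC.swap23 (hnc : S.NC) : S.swap23.NC := fun i j h =>
  hnc _ _ ((adjB_swapTwoThree i j).trans h)

theorem elA_swap12 : S.swap12.elA = ev S.x (wordA.map swapOneTwo) := ev_map _ _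

theorem elA_swap23 : S.swap23.elA = ev S.x (wordA.map swapTwoThree) := ev_map _ _

/-- Exchanging the last two arms gives `1` or `A`. -/
theorem twin_cases (hnc : S.NC) : S.swap23.elA = 1 ∨ S.swap23.elA = S.elA := by
  refine seven_cases hnc ?_ fun i hi => ?_
  · rw [elA_swap23]
    have := word_fix tabH_valid S.hypH (w := loc tabHNode (wordA.map swapTwoThree).reverse)
      (by decide +kernel) tabH_twin
    rwa [smul_coset_one, S.act_loc (by decide +kernel), List.reverse_reverse] at this
  · have h : ∀ i ∈ nodesSeven, swapTwoThree i ∈ 12 :: nodesE7 ∧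
        swapTwoThree (swapTwoThree i) = i := by decide +kernel
    obtain ⟨h1, h2⟩ := h i hi
    rw [show S.x i = S.swap23.x (swapTwoThree i) by rw [show S.swap23.x (swapTwoThree i) =
      S.x (swapTwoThree (swapTwoThree i)) from rfl, h2]]
    rcases List.mem_cons.1 h1 with e | h1
    · rw [e]; exact elA_comm12 hnc.swap23
    · exact S.swap23.elA_comm h1

theorem elA_twin (hnc : S.NC) : S.swap23.elA = S.elA := by
  rcases twin_cases hnc with e | e
  · have h2 : S.swap23.swap23.elA = S.elA := by
      rw [elA_swap23]
      show ev (fun i => S.x (swapTwoThree i)) (wordA.map swapTwoThree) = _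
      rw [ev_map, show (wordA.map swapTwoThree).map swapTwoThree = wordA by decide +kernel]
      rfl
    rcases twin_cases hnc.swap23 with e' | e' <;> rw [h2] at e'
    · rw [e, e']
    · exact e'.symm
  · exact e

/-- `A` commutes with the outer nodes of the other two arms. -/
theorem elA_far (hnc : S.NC) : ∀ i ∈ [5, 8, 9, 10, 12, 13, 14, 15], Commute S.elA (S.x i) := by
  intro i hi
  fin_cases hi
  · exact (S.commute_word (by decide +kernel)).symm
  · rw [← elA_twin hnc, elA_swap23]
    exact (S.commute_word (by decide +kernel)).symm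
  · exact (S.commute_word (by decide +kernel)).symm
  · exact (S.commute_word (by decide +kernel)).symm
  · exact elA_comm12 hnc
  · exact (S.commute_word (by decide +kernel)).symm
  · exact (S.commute_word (by decide +kernel)).symm
  · exact (S.commute_word (by decide +kernel)).symm

end Sys

end CfsgLib.Y555
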