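import Cfsg.Agent.Lib.Y555.CertCheck
import Cfsg.Agent.Lib.Y555.Tables
import Cfsg.Agent.Lib.Y555.Swaps
import Cfsg.Agent.Lib.Y555.TabK

/-!
# Kernel checks of `tabK`
-/

set_option autoImplicit false
set_option maxRecDepth 100000

namespace CfsgLib.Y555

open CfsgLib.PresCert

/-- The further relators. -/
def tabKExtra : List (List ℕ) :=
  [commW wordA 8]

/-- The subgroup words. -/
def tabKSubs : List (List ℕ) :=
  [0, 1, 2, 3, 6, 7, 11].map fun a => [tabKNode.idxOf a]

theorem tabK_block0 : block tabK 0 = true := by decide +kernel

theorem tabK_shape : shapeOk tabK = true := by decide +kernel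

theorem tabK_extra : tabKExtra.all (fun w => w.all fun a => tabKNode.contains a) = true := by
  decide +kernel

theorem tabK_hints : hintsOk tabK (tabRels tabKNode tabKExtra) tabKHints = true := by
  decide +kernel

theorem tabK_marks : marksOk tabK tabKSubs = true := by decide +kernel

theorem tabK_valid : Valid tabK where
  shape := tabK_shape
  slots b hb := by
    have h : tabK.N = 612 := rfl
    obtain rfl : b = 0 := by omega
    exact tabK_block0

/-- The words under which the live nodes are closed. -/
def tabKClose : List (List ℕ) :=
  [0, 1, 2, 3, 6, 7, 8, 11].map fun a => [tabKNode.idxOf a]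

theorem tabK_closedBlock : closedBlock tabK tabKClose 0 = true := by decide +kernel

theorem tabK_closed : Closed tabK tabKClose where
  toValid := tabK_valid
  words := by decide +kernel
  closed b hb := by
    have h : tabK.n = 128 := rfl
    obtain rfl : b = 0 := by omega
    exact tabK_closedBlock

theorem tabK_fixed : fixedOk tabK ([0, 1, 2, 3, 6, 7, 11].map tabKNode.idxOf)
    tabKFixed tabKReps tabKTo = true := by decide +kernel

end CfsgLib.Y555
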