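import Cfsg.Agent.Lib.Y555.CertCheck
import Cfsg.Agent.Lib.Y555.Tables
import Cfsg.Agent.Lib.Y555.Swaps
import Cfsg.Agent.Lib.Y555.TabZ

/-!
# Kernel checks of `tabZ`
-/

set_option autoImplicit false
set_option maxRecDepth 100000

namespace CfsgLib.Y555

open CfsgLib.PresCert

/-- The further relators. -/
def tabZExtra : List (List ℕ) :=
  [spiderWord, commW wordA 12, commW wordA 8, commW (wordA.map swapOneTwo) 4,
    commW (wordA.map swapOneTwo) 12, commW (wordA.map swapOneTwo) 3, commW wordZFull 12,
    commW wordZFull 8]

/-- The subgroup words. -/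
def tabZSubs : List (List ℕ) :=
  [0, 1, 2, 3, 6, 7, 8, 11].map fun a => [tabZNode.idxOf a]

theorem tabZ_block0 : block tabZ 0 = true := by decide +kernel

theorem tabZ_block1 : block tabZ 1 = true := by decide +kernel

theorem tabZ_block2 : block tabZ 2 = true := by decide +kernel

theorem tabZ_block3 : block tabZ 3 = true := by decide +kernel

theorem tabZ_block4 : block tabZ 4 = true := by decide +kernel

theorem tabZ_shape : shapeOk tabZ = true := by decide +kernel

theorem tabZ_extra : tabZExtra.all (fun w => w.all fun a => tabZNode.contains a) = true := by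
  decide +kernel

theorem tabZ_hints : hintsOk tabZ (tabRels tabZNode tabZExtra) tabZHints = true := by
  decide +kernel

theorem tabZ_marks : marksOk tabZ tabZSubs = true := by decide +kernel

theorem tabZ_valid : Valid tabZ where
  shape := tabZ_shape
  slots b hb := by
    have h : tabZ.N = 4411 := rfl
    obtain rfl | rfl | rfl | rfl | rfl : b = 0 ∨ b = 1 ∨ b = 2 ∨ b = 3 ∨ b = 4 := by omega
    exacts [tabZ_block0, tabZ_block1, tabZ_block2, tabZ_block3, tabZ_block4]

theorem tabZ_z : endsAt tabZ (tabZ.rm - 1)
    (walk tabZ (tabZ.rm - 1) 0 (loc tabZNode wordZFull.reverse)) 0 = true := by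
  decide +kernel

end CfsgLib.Y555
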