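import Cfsg.Agent.Lib.Y555.Elements
import Cfsg.Agent.Lib.Y555.TabKCheck
import Cfsg.Agent.Lib.Y555.TabZCheck

/-!
# The end node of an arm of Y₅₅₅

In a system satisfying the spider relation the translation `f₁ s` of the affine E₈ diagram has
order dividing two and three, and `(A e₁)³` is trivial; hence `f₁ = A`.
-/

set_option autoImplicit false
set_option maxRecDepth 100000

namespace CfsgLib.Y555

open CfsgLib.PresCert

/-- The nodes of Y₃₃₁. -/
def nodesY331 : List ℕ := [0, 1, 2, 3, 6, 7, 8, 11]

namespace Sys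

variable {G : Type*} [Group G] {S : Sys G}

/-- A product of conjugates commutes with what commutes with the conjugators and the translation. -/
theorem commute_transW {g : G} (hu : Commute g (ev S.x wordU)) {T : List (List ℕ × Bool)}
    (hT : ∀ p ∈ T, ∀ i ∈ p.1, Commute g (S.x i)) : Commute g (ev S.x (transW T)) := by
  induction T with
  | nil => exact Commute.one_right g
  | cons p T ih =>
    have e : transW (p :: T) = conjW p.1 (if p.2 then wordU else wordU.reverse) ++ transW T := rfl
    rw [e, ev_append, conjW, ev_append, ev_append, ev_reverse S.sq]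
    have hw : Commute g (ev S.x p.1) := ev_commute (hT p List.mem_cons_self)
    refine ((hw.mul_right ?_).mul_right hw.inv_right).mul_right
      (ih fun q hq => hT q (List.mem_cons_of_mem _ hq))
    split_ifs
    · exact hu
    · rw [ev_reverse S.sq]; exact hu.inv_right

/-- If two elements exchanged by a node commute with a neighbour of it, they are equal. -/
theorem eq_of_swap {c d : ℕ} (h : adjB c d = true) {P Q : G} (hP : Commute (S.x d) P)
    (hQ : Commute (S.x d) Q) (he : S.x c * P * S.x c = Q) : P = Q := by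
  have hb := S.braid c d h
  have hcc : ∀ y : G, S.x c * (S.x c * y) = y := fun y => by rw [← mul_assoc, S.sq, one_mul]
  have hP' : S.x c * Q * S.x c = P := by
    rw [← he]; simp only [mul_assoc]; rw [S.sq, mul_one, hcc]
  have k1 : Commute (S.x c * S.x d * S.x c) P := by
    show S.x c * S.x d * S.x c * P = P * (S.x c * S.x d * S.x c)
    conv_lhs => rw [← hP']
    conv_rhs => rw [← hP']
    simp only [mul_assoc]
    rw [hcc, hcc, ← mul_assoc (S.x d) Q, hQ.eq]
    simp only [mul_assoc]
  rw [hb] at k1
  have hdd : ∀ y : G, S.x d * (S.x d * y) = y := fun y => by rw [← mul_assoc, S.sq, one_mul]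
  have e : S.x c = S.x d * (S.x d * S.x c * S.x d) * S.x d := by
    simp only [mul_assoc]; rw [S.sq, mul_one, hdd]
  have k2 : Commute (S.x c) P := by
    rw [e]; exact (hP.mul_left k1).mul_left hP
  rw [← he, k2.eq, mul_assoc, S.sq, mul_one]

variable (S) in
/-- The element `z = (A e₁)³`. -/
def elZ : G := ev S.x wordZFull

theorem elZ_eq : S.elZ = S.elA * S.x 4 * (S.elA * S.x 4) * (S.elA * S.x 4) := by
  rw [elZ, elA, show wordZFull = (wordA ++ [4]) ++ ((wordA ++ [4]) ++ (wordA ++ [4])) by
    decide +kernel]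
  simp only [ev_append, ev_single, mul_assoc]

theorem elZ_comm {g : ℕ} (h : g ∈ [0, 1, 2, 3, 4, 6, 7, 11]) : Commute S.elZ (S.x g) := by
  rw [elZ, S.eq_of_ev S.ev_Z_eq]
  exact S.commute_of_commW (S.ev_Z_comm g h)

theorem ev_wordS : ev S.x wordS = S.x 4 * S.elA * S.x 4 * S.elA * S.x 4 := by
  rw [← S.eq_of_ev S.ev_S_eq, wordSFull, elA]
  simp only [ev_append, ev_single, mul_assoc]

theorem wordU_one (hnc : S.NC) : ev S.x wordU = 1 := by
  have hu : ∀ d ∈ [8, 12], Commute (S.x d) (ev S.x wordU) := by
    intro d hd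
    have h45 : ∀ d ∈ [8, 12], adjB d 5 = false ∧ adjB d 4 = false ∧ d ∈ [5, 8, 9, 10, 12, 13, 14, 15] :=
      by decide +kernel
    obtain ⟨h5, h4, hfar⟩ := h45 d hd
    have c4 := S.commute_x h4
    have cA := (elA_far hnc d hfar).symm
    rw [wordU, ev_cons, ev_wordS]
    exact (S.commute_x h5).mul_right ((((c4.mul_right cA).mul_right c4).mul_right cA).mul_right c4)
  have main : ∀ (c d : ℕ) (P Q : List (List ℕ × Bool)) (w : List ℕ) (n : ℕ), d ∈ [8, 12] →
      adjB c d = true → (∀ p ∈ P, ∀ i ∈ p.1, adjB d i = false) →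
      (∀ p ∈ Q, ∀ i ∈ p.1, adjB d i = false) →
      ev S.x ([c] ++ transW P ++ [c] ++ (transW Q).reverse) = 1 →
      ev S.x ((transW P).reverse ++ transW Q ++
        ((List.replicate n (conjW w wordU)).flatten).reverse) = 1 →
      ev S.x wordU ^ n = 1 := by
    intro c d P Q w n hd hcd hP hQ h1 h2
    have e1 : S.x c * ev S.x (transW P) * S.x c = ev S.x (transW Q) := by
      rw [ev_append, ev_append, ev_append, ev_single, ev_reverse S.sq, mul_inv_eq_one] at h1
      exact h1
    have e2 := eq_of_swap hcd (commute_transW (hu d hd) fun p hp i hi => S.commute_x (hP p hp i hi))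
      (commute_transW (hu d hd) fun p hp i hi => S.commute_x (hQ p hp i hi)) e1
    rw [ev_append, ev_append, ev_reverse S.sq, ev_reverse S.sq, e2, inv_mul_cancel, one_mul,
      inv_eq_one] at h2
    have hr : ∀ k, ev S.x (List.replicate k (conjW w wordU)).flatten =
        (ev S.x (conjW w wordU)) ^ k := by
      intro k
      induction k with
      | zero => simp [ev_nil]
      | succ k ih => rw [List.replicate_succ, List.flatten_cons, ev_append, ih, pow_succ']
    rw [hr, conjW, ev_append, ev_append, ev_reverse S.sq, conj_pow, conj_eq_one_iff] at h2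
    exact h2
  have h2 := main 7 8 twoP twoQ twoW 2 (by decide +kernel) (by decide +kernel) (by decide +kernel)
    (by decide +kernel) S.ev_two_swap S.ev_two_pow
  have h3 := main 11 12 threeP threeQ threeW 3 (by decide +kernel) (by decide +kernel)
    (by decide +kernel) (by decide +kernel) S.ev_three_swap S.ev_three_pow
  rwa [pow_succ, h2, one_mul] at h3

/-- The end node is `e₁ A e₁ A e₁`. -/
theorem x5_eq (hnc : S.NC) : S.x 5 = S.x 4 * S.elA * S.x 4 * S.elA * S.x 4 := by
  have h := wordU_one hnc
  rw [wordU, ev_cons, ev_wordS] at h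
  rw [eq_inv_of_mul_eq_one_left h]
  simp only [mul_inv_rev, elA_inv, inv_eq_of_mul_eq_one_right (S.sq 4), mul_assoc]

theorem x5_eq_mul (hnc : S.NC) : S.x 5 = S.elA * S.elZ := by
  rw [x5_eq hnc, elZ_eq]
  have h : S.elA * S.elA = 1 := by
    have := mul_inv_cancel S.elA
    rwa [elA_inv] at this
  simp only [mul_assoc]
  rw [← mul_assoc S.elA S.elA, h, one_mul]

theorem elZ_central (hnc : S.NC) : ∀ i < 16, Commute S.elZ (S.x i) := by
  intro i hi
  have hcases : ∀ i < 16, i ∈ [0, 1, 2, 3, 4, 6, 7, 11] ∨ i = 5 ∨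
      (i ∈ [5, 8, 9, 10, 12, 13, 14, 15] ∧ adjB 5 i = false) := by decide +kernel
  rcases hcases i hi with h | rfl | ⟨h, h5⟩
  · exact elZ_comm h
  · rw [x5_eq_mul hnc]
    have hA : Commute S.elZ S.elA := ev_commute fun j hj => by
      have : ∀ j ∈ wordA, j ∈ [0, 1, 2, 3, 4, 6, 7, 11] := by decide +kernel
      exact elZ_comm (this j hj)
    exact hA.mul_right (Commute.refl _)
  · have hZ : S.elZ = S.elA⁻¹ * S.x 5 := by rw [x5_eq_mul hnc, inv_mul_cancel_left]
    rw [hZ]
    exact (elA_far hnc i h).inv_left.mul_left (S.commute_x h5)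

theorem hypK : Hyp tabK (S.tgen tabKNode) ((1 : G) : G ⧸ S.sub nodesE7) ∨ ¬ S.NC := by
  by_cases hnc : S.NC
  · refine Or.inl (S.hyp_tab tabK_extra (by decide +kernel) tabK_hints tabK_marks fun w hw => ?_)
    simp only [tabKExtra, List.mem_cons, List.not_mem_nil, or_false] at hw
    subst hw
    exact S.ev_commW (elA_far hnc 8 (by decide +kernel))
  · exact Or.inr hnc

/-- An element of the Y₃₃₁ image commuting with E₇ lies in the E₇ image or in one further coset. -/
theorem k_cases (hnc : S.NC) {m : G} (hm : m ∈ S.sub nodesY331)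
    (hc : ∀ i ∈ nodesE7, Commute m (S.x i)) :
    m = 1 ∨ m = S.elA ∨
      m • ((1 : G) : G ⧸ S.sub nodesE7) =
        phi tabK (S.tgen tabKNode) ((1 : G) : G ⧸ S.sub nodesE7) 600 := by
  have H := (hypK (S := S)).resolve_right (not_not.2 hnc)
  have hfix : ∀ g ∈ nodesE7.map tabKNode.idxOf, S.tgen tabKNode g •
      (m • ((1 : G) : G ⧸ S.sub nodesE7)) = m • ((1 : G) : G ⧸ S.sub nodesE7) := by
    intro g hg
    obtain ⟨a, ha, rfl⟩ := List.mem_map.1 hg
    rw [S.tgen_idxOf ((show ∀ a ∈ nodesE7, a ∈ tabKNode by decide +kernel) a ha),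
      ← mul_smul, ← (hc a ha).eq, mul_smul, smul_coset_one.2 (S.mem_sub ha)]
  rcases fixed_cases tabK_closed H tabK_fixed
      (m := m) (S.sub_le_genGrp (L := nodesY331) (by decide +kernel) hm) hfix with
    ⟨s, hs, he⟩ | ⟨e, he, ht⟩
  · simp only [tabKFixed, List.mem_cons, List.not_mem_nil, or_false] at hs
    rcases hs with rfl | rfl
    · rw [phi_zero, smul_coset_one] at he
      refine (seven_cases hnc he fun i hi => hc i ?_).imp_right Or.inl
      exact (show ∀ i ∈ nodesSeven, i ∈ nodesE7 by decide +kernel) i hi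
    · exact Or.inr (Or.inr he)
  · rw [smul_coset_one] at ht
    have hcases : ∀ e ∈ tabKReps, e.2.2.1 = loc tabKNode [8] := by decide +kernel
    rw [hcases e he, S.act_loc (by decide +kernel), List.reverse_singleton, ev_single] at ht
    refine absurd (S.commute_sub (fun i hi => ?_) ht) (hnc 9 8 (by decide +kernel))
    have : ∀ i ∈ nodesE7, adjB 9 i = false := by decide +kernel
    exact S.commute_x (this i hi)

/-- Without commuting neighbours, `A` does not commute with `e₁`, and is not trivial. -/
theorem elA_not_commute (hnc : S.NC) : ¬ Commute S.elA (S.x 4) := by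
  intro h
  have h5 := x5_eq hnc
  have e : S.x 4 * S.elA * S.x 4 * S.elA * S.x 4 = S.x 4 := by
    have hA : S.elA * S.elA = 1 := by
      have := mul_inv_cancel S.elA
      rwa [elA_inv] at this
    rw [mul_assoc (S.x 4) S.elA (S.x 4), h.eq, ← mul_assoc (S.x 4) (S.x 4), S.sq, one_mul, hA,
      one_mul]
  rw [e] at h5
  exact hnc 4 5 (by decide +kernel) (h5 ▸ Commute.refl _)

theorem elB_comm (hnc : S.NC) :
    ∀ i ∈ [0, 1, 2, 3, 4, 6, 7, 11, 12], Commute S.swap12.elA (S.x i) := by
  have h : ∀ i ∈ [0, 1, 2, 3, 4, 6, 7, 11, 12], swapOneTwo (swapOneTwo i) = i ∧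
      (swapOneTwo i ∈ nodesE7 ∨ swapOneTwo i ∈ [5, 8, 9, 10, 12, 13, 14, 15]) := by decide +kernel
  intro i hi
  obtain ⟨h1, h2⟩ := h i hi
  rw [show S.x i = S.swap12.x (swapOneTwo i) by
    rw [show S.swap12.x (swapOneTwo i) = S.x (swapOneTwo (swapOneTwo i)) from rfl, h1]]
  rcases h2 with h2 | h2
  · exact S.swap12.elA_comm h2
  · exact elA_far hnc.swap12 _ h2

theorem hypZ (hnc : S.NC) :
    Hyp tabZ (S.tgen tabZNode) ((1 : G) : G ⧸ S.sub nodesY331) := by
  refine S.hyp_tab tabZ_extra (by decide +kernel) tabZ_hints tabZ_marks fun w hw => ?_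
  simp only [tabZExtra, List.mem_cons, List.not_mem_nil, or_false] at hw
  rcases hw with rfl | rfl | rfl | rfl | rfl | rfl | rfl | rfl
  · exact S.spider
  · exact S.ev_commW (elA_far hnc 12 (by decide +kernel))
  · exact S.ev_commW (elA_far hnc 8 (by decide +kernel))
  · exact S.ev_commW (elA_swap12 (S := S) ▸ elB_comm hnc 4 (by decide +kernel))
  · exact S.ev_commW (elA_swap12 (S := S) ▸ elB_comm hnc 12 (by decide +kernel))
  · exact S.ev_commW (elA_swap12 (S := S) ▸ elB_comm hnc 3 (by decide +kernel))
  · exact S.ev_commW (elZ_central hnc 12 (by norm_num))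
  · exact S.ev_commW (elZ_central hnc 8 (by norm_num))

theorem elZ_one (hnc : S.NC) : S.elZ = 1 := by
  have hlt : ∀ i ∈ nodesE7, i < 16 := by decide +kernel
  have hlt' : ∀ i ∈ nodesE7, i ∈ [0, 1, 2, 3, 4, 6, 7, 11, 12] := by decide +kernel
  have hmem : S.elZ ∈ S.sub nodesY331 := by
    have := word_fix tabZ_valid (hypZ hnc) (w := loc tabZNode wordZFull.reverse)
      (by decide +kernel) tabZ_z
    rwa [smul_coset_one, S.act_loc (by decide +kernel), List.reverse_reverse] at this
  have hB : S.swap12.elA ∈ S.sub nodesY331 :=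
    elA_swap12 (S := S) ▸ S.ev_mem_sub (by decide +kernel)
  have hA : S.elA * S.elA = 1 := by
    have := mul_inv_cancel S.elA
    rwa [elA_inv] at this
  have h2 : ¬ Commute S.swap12.elA (S.x 9) := elA_not_commute hnc.swap12
  rcases k_cases hnc hmem (fun i hi => elZ_central hnc i (hlt i hi)) with h | h | hz
  · exact h
  · have h5 := x5_eq_mul hnc
    rw [h, hA] at h5
    exact absurd (h5 ▸ Commute.one_left _) (hnc 5 4 (by decide +kernel))
  rcases k_cases hnc hB (fun i hi => elB_comm hnc i (hlt' i hi)) with h | h | hb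
  · exact absurd (h ▸ Commute.one_left _) h2
  · exact absurd (h ▸ elB_comm hnc 4 (by decide +kernel)) (elA_not_commute hnc)
  exfalso
  have hk : S.elZ⁻¹ * S.swap12.elA ∈ S.sub nodesE7 := by
    rw [← hb, MulAction.Quotient.smul_coe, MulAction.Quotient.smul_coe, smul_eq_mul, smul_eq_mul,
      mul_one, mul_one, QuotientGroup.eq] at hz
    exact hz
  have hc : ∀ i ∈ nodesSeven, Commute (S.elZ⁻¹ * S.swap12.elA) (S.x i) := fun i hi => by
    have hi' := (show ∀ i ∈ nodesSeven, i ∈ nodesE7 by decide +kernel) i hi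
    exact (elZ_central hnc i (hlt i hi')).inv_left.mul_left (elB_comm hnc i (hlt' i hi'))
  rcases seven_cases hnc hk hc with h | h
  · rw [inv_mul_eq_one] at h
    exact h2 (h ▸ elZ_central hnc 9 (by norm_num))
  · have hB5 : S.swap12.elA = S.x 5 := by
      rw [inv_mul_eq_iff_eq_mul] at h
      rw [h, x5_eq_mul hnc]
      exact (ev_commute fun j hj => elZ_central hnc j
        ((show ∀ j ∈ wordA, j < 16 by decide +kernel) j hj)).eq
    exact hnc 5 4 (by decide +kernel) (hB5 ▸ elB_comm hnc 4 (by decide +kernel))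

/-- Neighbours commuting somewhere make all nodes equal. -/
theorem collapse (h : ¬ S.NC) : ∀ i < 16, S.x i = S.x 0 := by
  have eq_of : ∀ i j, adjB i j = true → Commute (S.x i) (S.x j) → S.x i = S.x j := by
    intro i j hij hc
    have hb := S.braid i j hij
    rw [hc.eq, mul_assoc, S.sq, mul_one, ← hc.eq, mul_assoc, S.sq, mul_one] at hb
    exact hb.symm
  let par : ℕ → ℕ := fun i => [0, 0, 1, 2, 3, 4, 0, 6, 7, 8, 9, 0, 11, 12, 13, 14].getD i 0
  have hpar : ∀ i < 16, 0 < i → par i < i ∧ adjB i (par i) = true ∧ adjB (par i) i = true := by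
    decide +kernel
  have hedge : ∀ i < 16, ∀ j < 16, adjB i j = true →
      (0 < i ∧ par i = j) ∨ (0 < j ∧ par j = i) := by decide +kernel
  -- a collapsed edge collapses its neighbours
  have spread : ∀ i j k, adjB i j = true → S.x i = S.x j → adjB k j = true → k ≠ i →
      S.x k = S.x j := by
    intro i j k hij e hkj hki
    refine eq_of k j hkj ?_
    rw [← e]
    refine S.commute_x ?_
    have htri : ((List.range 16).all fun i => (List.range 16).all fun j => (List.range 16).all fun k =>
        !adjB i j || !adjB k j || Nat.beq k i || !adjB k i) = true := by decide +kernel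
    simp only [List.all_eq_true, List.mem_range, Bool.or_eq_true, Bool.not_eq_true', Nat.beq_eq]
      at htri
    have := htri i (adjB_lt hij).1 j (adjB_lt hij).2 k (adjB_lt hkj).1
    simpa [hij, hkj, hki] using this
  have down : ∀ i < 16, 0 < i → S.x i = S.x (par i) →
      ∃ r, adjB r 0 = true ∧ S.x r = S.x 0 := by
    intro i
    induction i using Nat.strong_induction_on with
    | h i ih =>
      intro hi hi0 e
      obtain ⟨hlt, hadj, hadj'⟩ := hpar i hi hi0
      rcases Nat.eq_zero_or_pos (par i) with hp | hp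
      · exact ⟨i, hp ▸ hadj, by rw [e, hp]⟩
      obtain ⟨hlt2, hadj2, hadj2'⟩ := hpar (par i) (by omega) hp
      exact ih (par i) hlt (by omega) hp
        (spread i (par i) (par (par i)) hadj e hadj2' (by omega)).symm
  have hroot : ∃ r, adjB r 0 = true ∧ S.x r = S.x 0 := by
    simp only [NC, not_forall, not_not] at h
    obtain ⟨i, j, hij, hc⟩ := h
    have e := eq_of i j hij hc
    obtain ⟨hi, hj⟩ := adjB_lt hij
    rcases hedge i hi j hj hij with ⟨h0, rfl⟩ | ⟨h0, rfl⟩
    · exact down i hi h0 e
    · exact down j hj h0 e.symm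
  obtain ⟨r, hr, er⟩ := hroot
  have up : ∀ i < 16, 0 < i → S.x i = S.x (par i) := by
    intro i
    induction i using Nat.strong_induction_on with
    | h i ih =>
      intro hi hi0
      obtain ⟨hlt, hadj, hadj'⟩ := hpar i hi hi0
      rcases Nat.eq_zero_or_pos (par i) with hp | hp
      · by_cases hir : i = r
        · rw [hp, hir, er]
        · rw [hp]; exact spread r 0 i hr er (hp ▸ hadj) hir
      obtain ⟨hlt2, hadj2, hadj2'⟩ := hpar (par i) (by omega) hp
      exact spread (par (par i)) (par i) i hadj2' (ih (par i) hlt (by omega) hp).symm hadj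
        (by omega)
  intro i
  induction i using Nat.strong_induction_on with
  | h i ih =>
    intro hi
    rcases Nat.eq_zero_or_pos i with rfl | hi0
    · rfl
    · rw [up i hi hi0]; exact ih _ (hpar i hi hi0).1 (by have := (hpar i hi hi0).1; omega)

/-- The end node is the ninth power of the Coxeter element of E₇. -/
theorem end_node (S : Sys G) : S.x 5 = ev S.x wordA := by
  by_cases hnc : S.NC
  · rw [x5_eq_mul hnc, elZ_one hnc, mul_one]; rfl
  · have h := collapse hnc
    have hA : ∀ w : List ℕ, (∀ j ∈ w, j < 16) → ev S.x w = S.x 0 ^ w.length := by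
      intro w
      induction w with
      | nil => intro _; simp [ev_nil]
      | cons a w ih =>
        intro hw
        rw [ev_cons, h a (hw a List.mem_cons_self),
          ih fun j hj => hw j (List.mem_cons_of_mem _ hj), List.length_cons, pow_succ']
    rw [hA wordA (by decide +kernel), h 5 (by norm_num),
      show wordA.length = 2 * 31 + 1 by decide +kernel, pow_succ, pow_mul, pow_two, S.sq, one_pow,
      one_mul]

end Sys

end CfsgLib.Y555
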