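import Cfsg.Agent.Lib.Y555.CertCheck
import Cfsg.Agent.Lib.Y555.Tables
import Cfsg.Agent.Lib.Y555.Swaps
import Cfsg.Agent.Lib.Y555.TabH

/-!
# Kernel checks of `tabH`
-/

set_option autoImplicit false
set_option maxRecDepth 100000

namespace CfsgLib.Y555

open CfsgLib.PresCert

/-- The further relators. -/
def tabHExtra : List (List ℕ) :=
  [spiderWord, spiderWord.map swapOneTwo]

/-- The subgroup words. -/
def tabHSubs : List (List ℕ) :=
  [0, 1, 2, 3, 6, 7, 11].map fun a => [tabHNode.idxOf a]

theorem tabH_block0 : block tabH 0 = true := by decide +kernel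

theorem tabH_block1 : block tabH 1 = true := by decide +kernel

theorem tabH_block2 : block tabH 2 = true := by decide +kernel

theorem tabH_block3 : block tabH 3 = true := by decide +kernel

theorem tabH_block4 : block tabH 4 = true := by decide +kernel

theorem tabH_block5 : block tabH 5 = true := by decide +kernel

theorem tabH_block6 : block tabH 6 = true := by decide +kernel

theorem tabH_shape : shapeOk tabH = true := by decide +kernel

theorem tabH_extra : tabHExtra.all (fun w => w.all fun a => tabHNode.contains a) = true := by
  decide +kernel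

theorem tabH_hints : hintsOk tabH (tabRels tabHNode tabHExtra) tabHHints = true := by
  decide +kernel

theorem tabH_marks : marksOk tabH tabHSubs = true := by decide +kernel

theorem tabH_valid : Valid tabH where
  shape := tabH_shape
  slots b hb := by
    have h : tabH.N = 6173 := rfl
    obtain rfl | rfl | rfl | rfl | rfl | rfl | rfl : b = 0 ∨ b = 1 ∨ b = 2 ∨ b = 3 ∨ b = 4 ∨ b = 5 ∨ b = 6 := by omega
    exacts [tabH_block0, tabH_block1, tabH_block2, tabH_block3, tabH_block4, tabH_block5, tabH_block6]

theorem tabH_h : endsAt tabH (tabH.rm - 1)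
    (walk tabH (tabH.rm - 1) 0 (loc tabHNode ([12] ++ wordA ++ [12]).reverse)) 0 = true := by
  decide +kernel

theorem tabH_twin : endsAt tabH (tabH.rm - 1)
    (walk tabH (tabH.rm - 1) 0 (loc tabHNode (wordA.map swapTwoThree).reverse)) 0 = true := by
  decide +kernel

end CfsgLib.Y555
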