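import Cfsg.Agent.Lib.PresCert.Bound

/-!
# Systems of involutions on the diagram Y₅₅₅ and checked rewriting of their words

The nodes are numbered `a = 0`, `b₁ … f₁ = 1 … 5`, `b₂ … f₂ = 6 … 10`, `b₃ … f₃ = 11 … 15`.
A word certificate is a list of packed cursor moves, deletions of squares, swaps and braid moves.
-/

set_option autoImplicit false

namespace CfsgLib.Y555

/-- The neighbours of each node, as bit masks. -/
def masks : List ℕ :=
  [2114, 5, 10, 20, 40, 16, 129, 320, 640, 1280, 512, 4097, 10240, 20480, 40960, 16384]

/-- The adjacency of nodes. -/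
def adjB (i j : ℕ) : Bool := (masks.getD i 0).testBit j

theorem adjB_lt {i j : ℕ} (h : adjB i j = true) : i < 16 ∧ j < 16 := by
  have hi : i < 16 := by
    by_contra hi
    rw [adjB, List.getD_eq_default _ _ (by simpa [masks] using hi), Nat.zero_testBit] at h
    exact Bool.noConfusion h
  refine ⟨hi, ?_⟩
  have hm : ∀ i < 16, masks.getD i 0 < 2 ^ 16 := by decide
  by_contra hj
  rw [adjB, Nat.testBit_lt_two_pow ((hm i hi).trans_le
    (Nat.pow_le_pow_right (by norm_num) (not_lt.1 hj)))] at h
  exact Bool.noConfusion h

/-- The word of the spider relation. -/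
def spiderWord : List ℕ := (List.replicate 10 [0, 1, 2, 0, 6, 7, 0, 11, 12]).flatten

/-- The product of a word. -/
def ev {G : Type*} [Group G] (x : ℕ → G) (w : List ℕ) : G := (w.map x).prod

/-- Sixteen involutions with the Coxeter relations of Y₅₅₅ and the spider relation. -/
structure Sys (G : Type*) [Group G] where
  /-- The elements of the nodes. -/
  x : ℕ → G
  sq : ∀ i, x i * x i = 1
  comm : ∀ i j, adjB i j = false → x i * x j = x j * x i
  braid : ∀ i j, adjB i j = true → x i * x j * x i = x j * x i * x j
  spider : ev x spiderWord = 1

variable {G : Type*} [Group G]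

section

variable {x : ℕ → G}

theorem ev_nil : ev x [] = 1 := rfl

theorem ev_cons (a : ℕ) (w : List ℕ) : ev x (a :: w) = x a * ev x w := by simp [ev]

theorem ev_append (u w : List ℕ) : ev x (u ++ w) = ev x u * ev x w := by simp [ev]

theorem ev_single (a : ℕ) : ev x [a] = x a := by simp [ev]

theorem ev_map (p : ℕ → ℕ) (w : List ℕ) : ev (fun i => x (p i)) w = ev x (w.map p) := by
  simp [ev, List.map_map, Function.comp_def]

theorem ev_reverse (hsq : ∀ i, x i * x i = 1) (w : List ℕ) :
    ev x w.reverse = (ev x w)⁻¹ := by
  induction w with
  | nil => simp [ev_nil]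
  | cons a w ih =>
    rw [List.reverse_cons, ev_append, ev_single, ev_cons, ih, mul_inv_rev,
      inv_eq_of_mul_eq_one_right (hsq a)]

theorem act_eq_ev (w : List ℕ) : PresCert.act x w = ev x w.reverse := by
  induction w with
  | nil => rfl
  | cons a w ih => rw [PresCert.act_cons, ih, List.reverse_cons, ev_append, ev_single]

theorem ev_mem {H : Subgroup G} {w : List ℕ} (h : ∀ i ∈ w, x i ∈ H) : ev x w ∈ H :=
  Subgroup.list_prod_mem _ fun _ hy => by
    obtain ⟨i, hi, rfl⟩ := List.mem_map.1 hy
    exact h i hi

theorem ev_commute {g : G} {w : List ℕ} (h : ∀ i ∈ w, Commute g (x i)) : Commute g (ev x w) :=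
  Commute.list_prod_right _ _ fun _ hy => by
    obtain ⟨i, hi, rfl⟩ := List.mem_map.1 hy
    exact h i hi

end

/-! ### Certificates -/

/-- One move on a word with a cursor: `1` left, `2` right, `3` delete a square, `4` swap,
`5` braid. -/
def step1 (st : List ℕ × List ℕ) (op : ℕ) : Option (List ℕ × List ℕ) :=
  if Nat.beq op 1 then
    match st.1 with
    | a :: L => some (L, a :: st.2)
    | [] => none
  else if Nat.beq op 2 then
    match st.2 with
    | a :: R => some (a :: st.1, R)
    | [] => none
  else if Nat.beq op 3 then
    match st.2 with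
    | a :: b :: R => if Nat.beq a b then some (st.1, R) else none
    | _ => none
  else if Nat.beq op 4 then
    match st.2 with
    | a :: b :: R => if adjB a b then none else some (st.1, b :: a :: R)
    | _ => none
  else if Nat.beq op 5 then
    match st.2 with
    | a :: b :: c :: R => if Nat.beq a c && adjB a b then some (st.1, b :: a :: b :: R) else none
    | _ => none
  else none

/-- The moves of one packed number, in base 8. -/
def runPack : ℕ → ℕ → List ℕ × List ℕ → Option (List ℕ × List ℕ)
  | 0, _, st => some st
  | fu + 1, code, st =>
    if Nat.beq code 0 then some st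
    else match step1 st (code % 8) with
      | some st' => runPack fu (code / 8) st'
      | none => none

/-- The moves of a certificate. -/
def runAll : List ℕ → List ℕ × List ℕ → Option (List ℕ × List ℕ)
  | [], st => some st
  | c :: cs, st =>
    match runPack 64 c st with
    | some st' => runAll cs st'
    | none => none

/-- The certificate reduces the word to the empty word. -/
def reduces (ops w : List ℕ) : Bool :=
  match runAll ops ([], w) with
  | some ([], []) => true
  | _ => false

namespace Sys

variable (S : Sys G)

/-- The element of a word with a cursor. -/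
def stVal (st : List ℕ × List ℕ) : G := ev S.x st.1.reverse * ev S.x st.2

theorem step1_sound {st st' : List ℕ × List ℕ} {op : ℕ} (h : step1 st op = some st') :
    S.stVal st' = S.stVal st := by
  obtain ⟨L, R⟩ := st
  simp only [step1, stVal] at h ⊢
  split_ifs at h <;> split at h <;> try (split_ifs at h)
  all_goals (first | (cases h; done) | skip)
  all_goals (injection h with h; subst h)
  · rename_i _ a L'
    simp only [List.reverse_cons, ev_append, ev_cons, ev_nil, mul_one, mul_assoc]
  · rename_i _ a R'
    simp only [List.reverse_cons, ev_append, ev_cons, ev_nil, mul_one, mul_assoc]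
  · rename_i _ a b R' hab
    simp only [Nat.beq_eq] at hab
    subst hab
    simp only [ev_cons, ← mul_assoc (S.x a) (S.x a), S.sq, one_mul]
  · rename_i _ a b R' hab
    simp only [Bool.not_eq_true] at hab
    simp only [ev_cons, ← mul_assoc (S.x b) (S.x a), ← S.comm a b hab, mul_assoc]
  · rename_i _ a b c R' hac
    simp only [Nat.beq_eq, Bool.and_eq_true] at hac
    obtain ⟨rfl, hab⟩ := hac
    simp only [ev_cons, ← mul_assoc]
    rw [mul_assoc (ev S.x L.reverse), mul_assoc (ev S.x L.reverse), ← S.braid a b hab]
    simp only [mul_assoc]

theorem runPack_sound : ∀ (fu code : ℕ) {st st' : List ℕ × List ℕ},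
    runPack fu code st = some st' → S.stVal st' = S.stVal st
  | 0, _, _, _, h => by
    rw [runPack] at h
    cases h; rfl
  | fu + 1, code, st, st', h => by
    rw [runPack] at h
    split at h
    · cases h; rfl
    · split at h
      · rename_i st1 e
        rw [runPack_sound fu _ h, S.step1_sound e]
      · cases h

theorem runAll_sound : ∀ (cs : List ℕ) {st st' : List ℕ × List ℕ},
    runAll cs st = some st' → S.stVal st' = S.stVal st
  | [], _, _, h => by
    rw [runAll] at h
    cases h; rfl
  | c :: cs, st, st', h => by
    rw [runAll] at h
    split at h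
    · rename_i st1 e
      rw [runAll_sound cs h, S.runPack_sound 64 c e]
    · cases h

theorem ev_one_of_reduces {ops w : List ℕ} (h : reduces ops w = true) : ev S.x w = 1 := by
  rw [reduces] at h
  split at h
  · rename_i e
    have := S.runAll_sound ops e
    simpa [stVal, ev_nil] using this.symm
  · cases h

end Sys

end CfsgLib.Y555
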